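import Mathlib

/-!
# Cotangent space and the fibre of differentials at a rational point (helper19, for S10909)
-/

namespace Groth.Agent.Helper19.OmegaFib

open scoped TensorProduct
open IsLocalRing

universe u

/-- An `R`-linear equivalence between two vector spaces over a quotient field of `R` preserves
dimension. -/
theorem finrank_eq_of_linearEquiv_of_surjective {R κ M N : Type*} [CommRing R] [Field κ]
    [Algebra R κ] (hs : Function.Surjective (algebraMap R κ))
    [AddCommGroup M] [Module R M] [Module κ M] [IsScalarTower R κ M]
    [AddCommGroup N] [Module R N] [Module κ N] [IsScalarTower R κ N] (e : M ≃ₗ[R] N) :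
    Module.finrank κ M = Module.finrank κ N := by
  let e' : M ≃ₗ[κ] N :=
    { e with
      map_smul' := fun c x => by
        obtain ⟨r, rfl⟩ := hs c
        simp only [AddHom.toFun_eq_coe, LinearMap.coe_toAddHom, LinearEquiv.coe_coe,
          RingHom.id_apply, algebraMap_smul]
        exact e.map_smul r x }
  exact e'.finrank_eq

section Local

variable (k : Type u) [Field k] (R : Type u) [CommRing R] [IsLocalRing R] [Algebra k R]

theorem kerCotangentToTensor_bijective
    (hκ : Function.Surjective (algebraMap k (ResidueField R))) :
    Function.Bijective (KaehlerDifferential.kerCotangentToTensor k R (ResidueField R)) := by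
  have hsurj : Function.Surjective (algebraMap R (ResidueField R)) := residue_surjective
  constructor
  · -- injective via a retraction
    have hbij : Function.Bijective (Algebra.ofId k (ResidueField R)) :=
      ⟨(algebraMap k (ResidueField R)).injective, hκ⟩
    let e : k ≃ₐ[k] ResidueField R := AlgEquiv.ofBijective (Algebra.ofId k (ResidueField R)) hbij
    let g : ResidueField R →ₐ[k] R ⧸ (RingHom.ker (algebraMap R (ResidueField R)) ^ 2) :=
      (Algebra.ofId k _).comp e.symm.toAlgHom
    have hg : (IsScalarTower.toAlgHom k R (ResidueField R)).kerSquareLift.comp g =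
        AlgHom.id k (ResidueField R) := by
      apply AlgHom.ext
      intro x
      obtain ⟨c, rfl⟩ := hκ x
      simp
    obtain ⟨l, hl⟩ := (retractionKerCotangentToTensorEquivSection (R := k) (P := R)
      (S := ResidueField R) hsurj).symm ⟨g, hg⟩
    exact Function.LeftInverse.injective (g := l) (fun x => LinearMap.congr_fun hl x)
  · intro y
    haveI : Subsingleton (Ω[ResidueField R⁄k]) := KaehlerDifferential.subsingleton_of_surjective _ _ hκ
    have hex := KaehlerDifferential.exact_kerCotangentToTensor_mapBaseChange k R (ResidueField R) hsurj
    exact (hex y).mp (Subsingleton.elim _ _)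

theorem finrank_cotangentSpace_eq_finrank_tensor_kaehler
    (hκ : Function.Surjective (algebraMap k (ResidueField R))) :
    Module.finrank (ResidueField R) (CotangentSpace R) =
      Module.finrank (ResidueField R) (ResidueField R ⊗[R] Ω[R⁄k]) := by
  have hker : maximalIdeal R = RingHom.ker (algebraMap R (ResidueField R)) :=
    (ker_residue (R := R)).symm
  let e0 : CotangentSpace R ≃ₗ[R] (RingHom.ker (algebraMap R (ResidueField R))).Cotangent :=
    Ideal.Cotangent.equivOfEq _ _ hker
  let e1 : (RingHom.ker (algebraMap R (ResidueField R))).Cotangent ≃ₗ[R]
      ResidueField R ⊗[R] Ω[R⁄k] :=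
    LinearEquiv.ofBijective _ (kerCotangentToTensor_bijective k R hκ)
  exact finrank_eq_of_linearEquiv_of_surjective (residue_surjective (R := R)) (e0.trans e1)

end Local

section Global

variable (k : Type u) [Field k] (A : Type u) [CommRing A] [Algebra k A] (m : Ideal A) [m.IsPrime]

theorem finrank_fibre_kaehler_eq_localization :
    Module.finrank m.ResidueField (m.ResidueField ⊗[A] Ω[A⁄k]) =
      Module.finrank (ResidueField (Localization.AtPrime m))
        (ResidueField (Localization.AtPrime m) ⊗[Localization.AtPrime m]
          Ω[Localization.AtPrime m⁄k]) := by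
  let e2 := TensorProduct.AlgebraTensorModule.cancelBaseChange A (Localization.AtPrime m)
    m.ResidueField m.ResidueField (Ω[A⁄k])
  haveI : Algebra.FormallyEtale A (Localization.AtPrime m) :=
    Algebra.FormallyEtale.of_isLocalization m.primeCompl
  let e3 := KaehlerDifferential.tensorKaehlerEquivOfFormallyEtale k A (Localization.AtPrime m)
  let e4 := LinearEquiv.baseChange (Localization.AtPrime m) m.ResidueField _ _ e3
  rw [← e2.finrank_eq]
  exact e4.finrank_eq

end Global

end Groth.Agent.Helper19.OmegaFib
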