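import Mathlib
import Groth.Agent.Lib.Helper9.Cartier7
import Groth.Agent.Lib.Helper18.DimFG

/-!
# Fibre dimension of the module of differentials is at least the dimension (helper19, S10902)
-/

namespace Groth.Agent.Helper19.OmegaFib

open scoped TensorProduct
open IsLocalRing

universe u

section Local

variable (R : Type u) [CommRing R] [IsLocalRing R] (N : Type u) [AddCommGroup N] [Module R N]
  [Module.Finite R N] (K : Type u) [Field K] [Algebra R K]

/-- Over a local ring, the fibre dimension of a finite module at any point is at most the fibre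
dimension at the closed point. -/
theorem finrank_tensor_le_residueField :
    Module.finrank K (K ⊗[R] N) ≤ Module.finrank (ResidueField R) (ResidueField R ⊗[R] N) := by
  classical
  obtain ⟨r, hr⟩ : ∃ r, r = Module.finrank (ResidueField R) (ResidueField R ⊗[R] N) := ⟨_, rfl⟩
  rw [← hr]
  let b : Module.Basis (Fin r) (ResidueField R) (ResidueField R ⊗[R] N) :=
    Module.finBasisOfFinrankEq _ _ hr.symm
  have hsurj : Function.Surjective (TensorProduct.mk R (ResidueField R) N 1) :=
    TensorProduct.mk_surjective R N (ResidueField R) Ideal.Quotient.mk_surjective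
  choose f hf using fun i => hsurj (b i)
  have hspan : Submodule.span R (Set.range f) = ⊤ :=
    IsLocalRing.span_eq_top_of_tmul_eq_basis f b hf
  have hspanK : Submodule.span K (Set.range fun i => (1 : K) ⊗ₜ[R] f i) = ⊤ := by
    rw [eq_top_iff]
    rintro x -
    induction x using TensorProduct.induction_on with
    | zero => exact Submodule.zero_mem _
    | add x y hx hy => exact Submodule.add_mem _ hx hy
    | tmul c n =>
      have hn : n ∈ Submodule.span R (Set.range f) := by rw [hspan]; trivial
      induction hn using Submodule.span_induction with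
      | mem y hy =>
        obtain ⟨i, rfl⟩ := hy
        have : c ⊗ₜ[R] f i = c • ((1 : K) ⊗ₜ[R] f i) := by
          rw [TensorProduct.smul_tmul', smul_eq_mul, mul_one]
        rw [this]
        exact Submodule.smul_mem _ _ (Submodule.subset_span ⟨i, rfl⟩)
      | zero => rw [TensorProduct.tmul_zero]; exact Submodule.zero_mem _
      | add y z _ _ hy hz => rw [TensorProduct.tmul_add]; exact Submodule.add_mem _ hy hz
      | smul a y _ hy =>
        rw [TensorProduct.tmul_smul]
        have : a • (c ⊗ₜ[R] y) = (algebraMap R K a) • (c ⊗ₜ[R] y) := by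
          rw [algebraMap_smul]
        rw [this]
        exact Submodule.smul_mem _ _ hy
  have h1 := finrank_range_le_card (R := K) (fun i : Fin r => (1 : K) ⊗ₜ[R] f i)
  rw [Set.finrank, hspanK, finrank_top, Fintype.card_fin] at h1
  exact h1

end Local

section Global

variable (A : Type u) [CommRing A] (P : Ideal A) [P.IsPrime] (M : Type u) [AddCommGroup M]
  [Module A M] [Module.Finite A M] (K : Type u) [Field K] [Algebra A K]

/-- Upper semicontinuity of fibre dimension, pointwise form: if `Spec K → Spec A` lands in a
generization of `P`, the fibre dimension at `K` is at most that at `P`. -/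
theorem finrank_tensor_le_residueField_of_prime
    (hK : ∀ a : A, a ∉ P → algebraMap A K a ≠ 0) :
    Module.finrank K (K ⊗[A] M) ≤ Module.finrank P.ResidueField (P.ResidueField ⊗[A] M) := by
  have hunit : ∀ y : P.primeCompl, IsUnit (algebraMap A K y) := fun y => (hK y y.2).isUnit
  letI : Algebra (Localization.AtPrime P) K :=
    (IsLocalization.lift (M := P.primeCompl) (S := Localization.AtPrime P) hunit).toAlgebra
  haveI : IsScalarTower A (Localization.AtPrime P) K :=
    IsScalarTower.of_algebraMap_eq (fun a => (IsLocalization.lift_eq hunit a).symm)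
  have e1 := TensorProduct.AlgebraTensorModule.cancelBaseChange A (Localization.AtPrime P) K K M
  have e2 := TensorProduct.AlgebraTensorModule.cancelBaseChange A (Localization.AtPrime P)
    P.ResidueField P.ResidueField M
  rw [← e1.finrank_eq, ← e2.finrank_eq]
  exact finrank_tensor_le_residueField (Localization.AtPrime P)
    ((Localization.AtPrime P) ⊗[A] M) K

end Global

section Main

variable (k : Type u) [Field k] (A : Type u) [CommRing A] [Algebra k A] [Algebra.FiniteType k A]

theorem le_finrank_kaehler_fractionRing (B : Type u) [CommRing B] [IsDomain B] [Algebra k B]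
    [Algebra.FiniteType k B] (n : ℕ) (hn : (n : WithBot ℕ∞) ≤ ringKrullDim B) :
    n ≤ Module.finrank (FractionRing B) (Ω[FractionRing B⁄k]) := by
  classical
  obtain ⟨s, g, hginj, _, hdim⟩ := Groth.Agent.Helper18.DimFG.exists_noether (k := k) B
  rw [hdim] at hn
  have hns : n ≤ s := by exact_mod_cast hn
  haveI : Algebra.EssFiniteType k (FractionRing B) :=
    Algebra.EssFiniteType.comp k B (FractionRing B)
  have hind : AlgebraicIndependent k
      (fun i : Fin s => algebraMap B (FractionRing B) (g (MvPolynomial.X i))) := by
    rw [algebraicIndependent_iff_injective_aeval]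
    have : (MvPolynomial.aeval fun i : Fin s =>
        algebraMap B (FractionRing B) (g (MvPolynomial.X i))) =
        (IsScalarTower.toAlgHom k B (FractionRing B)).comp g := by
      apply MvPolynomial.algHom_ext
      intro i
      simp
    rw [this]
    exact (IsFractionRing.injective B (FractionRing B)).comp hginj
  have h1 : (s : Cardinal) ≤ Algebra.trdeg k (FractionRing B) := by
    have := hind.lift_cardinalMk_le_trdeg
    simpa using this
  obtain ⟨_, _, hfin, _⟩ := Groth.Agent.Helper9.Cartier.P.of_essFiniteType k (FractionRing B)
  have h2 : s ≤ Cardinal.toNat (Algebra.trdeg k (FractionRing B)) := by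
    have := Cardinal.toNat_le_toNat h1 hfin
    simpa using this
  obtain ⟨_, _, h3⟩ := Groth.Agent.Helper9.Cartier.ineq_of_essFiniteType
    (k := k) (K := k) (L := FractionRing B)
  have h4 : (0 : ℤ) ≤ Module.finrank (FractionRing B)
      (EGA41.imperfection k k (FractionRing B)) := Int.natCast_nonneg _
  have h5 : (s : ℤ) ≤ Cardinal.toNat (Algebra.trdeg k (FractionRing B)) := by exact_mod_cast h2
  have : (n : ℤ) ≤ Module.finrank (FractionRing B) (Ω[FractionRing B⁄k]) := by
    have : (n : ℤ) ≤ s := by exact_mod_cast hns
    linarith
  exact_mod_cast this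

theorem main (n : ℕ) (P : Ideal A) [P.IsPrime] (q : Ideal A) [q.IsPrime] (hqP : q ≤ P)
    (hq : (n : WithBot ℕ∞) ≤ ringKrullDim (A ⧸ q)) :
    n ≤ Module.finrank P.ResidueField (P.ResidueField ⊗[A] (Ω[A⁄k])) := by
  haveI : IsDomain (A ⧸ q) := Ideal.Quotient.isDomain q
  have h1 := le_finrank_kaehler_fractionRing k (A ⧸ q) n hq
  refine le_trans h1 ?_
  -- surjectivity of base change of differentials
  haveI : Algebra.FormallyUnramified A (A ⧸ q) :=
    Algebra.FormallyUnramified.of_surjective (Algebra.ofId A (A ⧸ q)) Ideal.Quotient.mk_surjective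
  haveI : Algebra.FormallyUnramified (A ⧸ q) (FractionRing (A ⧸ q)) :=
    Algebra.FormallyUnramified.of_isLocalization (nonZeroDivisors (A ⧸ q))
  haveI : Algebra.FormallyUnramified A (FractionRing (A ⧸ q)) :=
    Algebra.FormallyUnramified.comp A (A ⧸ q) (FractionRing (A ⧸ q))
  have hsurj : Function.Surjective
      (KaehlerDifferential.mapBaseChange k A (FractionRing (A ⧸ q))) := by
    rw [← LinearMap.range_eq_top, KaehlerDifferential.range_mapBaseChange, eq_top_iff]
    intro x _
    rw [LinearMap.mem_ker]
    exact Subsingleton.elim _ _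
  have h2 := LinearMap.finrank_le_finrank_of_surjective hsurj
  refine le_trans h2 ?_
  apply finrank_tensor_le_residueField_of_prime
  intro a ha
  rw [IsScalarTower.algebraMap_apply A (A ⧸ q) (FractionRing (A ⧸ q)), Ne,
    map_eq_zero_iff _ (IsFractionRing.injective (A ⧸ q) (FractionRing (A ⧸ q))),
    Ideal.Quotient.algebraMap_eq, Ideal.Quotient.eq_zero_iff_mem]
  exact fun h => ha (hqP h)

end Main

end Groth.Agent.Helper19.OmegaFib
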