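import Mathlib
import Groth.Agent.Lib.Helper14.LocalDimAlg

/-!
# Heights of maximal ideals in irreducible finite type algebras (helper19, for S10909)
-/

namespace Groth.Agent.Helper19.OmegaFib

universe u

theorem height_le_height_map_nilradical {A : Type*} [CommRing A] (P : Ideal A) [hP : P.IsPrime] :
    P.height ≤ (P.map (Ideal.Quotient.mk (nilradical A))).height := by
  have hφ : Function.Surjective (Ideal.Quotient.mk (nilradical A)) := Ideal.Quotient.mk_surjective
  have hker : ∀ p : PrimeSpectrum A, RingHom.ker (Ideal.Quotient.mk (nilradical A)) ≤ p.asIdeal := by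
    intro p
    rw [Ideal.mk_ker]
    exact nilradical_le_prime p.asIdeal
  let f : PrimeSpectrum A → PrimeSpectrum (A ⧸ nilradical A) := fun p =>
    ⟨p.asIdeal.map (Ideal.Quotient.mk (nilradical A)), Ideal.map_isPrime_of_surjective hφ (hker p)⟩
  have hcomap : ∀ p : PrimeSpectrum A,
      (f p).asIdeal.comap (Ideal.Quotient.mk (nilradical A)) = p.asIdeal := by
    intro p
    change (p.asIdeal.map (Ideal.Quotient.mk (nilradical A))).comap _ = _
    rw [Ideal.comap_map_of_surjective _ hφ, sup_eq_left]
    have := hker p
    rwa [RingHom.ker_eq_comap_bot] at this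
  have hf : StrictMono f := by
    intro p q hpq
    rw [← PrimeSpectrum.asIdeal_lt_asIdeal] at hpq ⊢
    refine lt_of_le_of_ne (Ideal.map_mono hpq.le) ?_
    intro h
    have h2 : (f p).asIdeal = (f q).asIdeal := h
    have := congrArg (Ideal.comap (Ideal.Quotient.mk (nilradical A))) h2
    rw [hcomap, hcomap] at this
    exact hpq.ne this
  have key := Order.height_le_height_apply_of_strictMono f hf ⟨P, hP⟩
  have h1 := PrimeSpectrum.height_eq_orderHeight (⟨P, hP⟩ : PrimeSpectrum A)
  have h2 := PrimeSpectrum.height_eq_orderHeight (f ⟨P, hP⟩)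
  change P.height = _ at h1
  change (P.map (Ideal.Quotient.mk (nilradical A))).height = _ at h2
  rw [h1, h2]
  exact key

open Groth.Agent.Helper14 in
theorem height_eq_of_isMaximal (k A : Type u) [Field k] [CommRing A] [Algebra k A]
    [Algebra.FiniteType k A] (hirr : (nilradical A).IsPrime) (n : ℕ) (hn : ringKrullDim A = n)
    (m : Ideal A) [hm : m.IsMaximal] : m.height = n := by
  haveI := hirr
  haveI : Nontrivial A := by
    by_contra h
    rw [not_nontrivial_iff_subsingleton] at h
    exact hirr.ne_top (Subsingleton.elim _ _)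
  haveI : FiniteRingKrullDim A := by
    rw [finiteRingKrullDim_iff_ne_bot_and_top, hn]
    exact ⟨WithBot.coe_ne_bot, by
      intro h
      have : ((n : ℕ∞) : WithBot ℕ∞) = ((⊤ : ℕ∞) : WithBot ℕ∞) := h
      exact ENat.natCast_ne_top n (WithBot.coe_injective this)⟩
  obtain ⟨M₀, hM₀max, hM₀⟩ := Ideal.exists_isMaximal_height (R := A)
  haveI := hM₀max
  have hQM₀ : nilradical A ≤ M₀ := nilradical_le_prime M₀
  have hQm : nilradical A ≤ m := nilradical_le_prime m
  have f1 := LocalDimAlg.height_map_add_trdeg k A (nilradical A) M₀ hQM₀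
  have f2 := LocalDimAlg.height_map_add_trdeg k A (nilradical A) m hQm
  rw [LocalDimAlg.trdeg_quotient_maximal, add_zero] at f1 f2
  have f3 : (M₀.map (Ideal.Quotient.mk (nilradical A))).height =
      (m.map (Ideal.Quotient.mk (nilradical A))).height := by
    have := f1.trans f2.symm
    exact_mod_cast this
  apply le_antisymm
  · have := Ideal.height_le_ringKrullDim_of_isPrime (I := m)
    rw [hn] at this
    exact_mod_cast this
  · have h1 := height_le_height_map_nilradical M₀
    have h2 := LocalDimAlg.height_map_le (nilradical A) m hQm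
    have h3 : (n : ℕ∞) = M₀.height := by
      have := hM₀
      rw [hn] at this
      exact_mod_cast this.symm
    rw [h3]
    exact h1.trans (f3 ▸ h2)

theorem ringKrullDim_localization_maximal (k A : Type u) [Field k] [CommRing A] [Algebra k A]
    [Algebra.FiniteType k A] (hirr : (nilradical A).IsPrime) (n : ℕ) (hn : ringKrullDim A = n)
    (m : Ideal A) [hm : m.IsMaximal] : ringKrullDim (Localization.AtPrime m) = n := by
  rw [IsLocalization.AtPrime.ringKrullDim_eq_height m (Localization.AtPrime m),
    height_eq_of_isMaximal k A hirr n hn m]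
  rfl

end Groth.Agent.Helper19.OmegaFib
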