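import Mathlib
import Groth.Agent.S10910
import Groth.Agent.Lib.Helper14.RegularLocalization
import Groth.Agent.Lib.Helper19.OmegaFib.Cotangent
import Groth.Agent.Lib.Helper19.OmegaFib.MaxDim

/-!
# Nonsingular ⟺ `Ω` locally free of rank `dim` over an algebraically closed field (helper19, S10909)
-/

namespace Groth.Agent.Helper19.OmegaFib

open scoped TensorProduct
open IsLocalRing

universe u

variable (k : Type u) [Field k] [IsAlgClosed k] (A : Type u) [CommRing A] [Algebra k A]
  [Algebra.FiniteType k A]

theorem residueField_surjective (m : Ideal A) [hm : m.IsMaximal] :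
    Function.Surjective (algebraMap k (ResidueField (Localization.AtPrime m))) := by
  letI : Field (A ⧸ m) := Ideal.Quotient.field m
  haveI : Module.Finite k (A ⧸ m) := finite_of_finite_type_of_isJacobsonRing k (A ⧸ m)
  haveI : Algebra.IsIntegral k (A ⧸ m) := Algebra.IsIntegral.of_finite k _
  have h1 : Function.Surjective (algebraMap k (A ⧸ m)) :=
    (IsAlgClosed.algebraMap_bijective_of_isIntegral).surjective
  have h2 : Function.Surjective (algebraMap (A ⧸ m) m.ResidueField) :=
    (Ideal.bijective_algebraMap_quotient_residueField m).surjective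
  intro x
  obtain ⟨y, rfl⟩ := h2 x
  obtain ⟨c, rfl⟩ := h1 y
  refine ⟨c, ?_⟩
  rw [IsScalarTower.algebraMap_apply k A (ResidueField (Localization.AtPrime m)),
    IsScalarTower.algebraMap_apply k A (A ⧸ m)]
  rfl

theorem finrank_fibre_eq_finrank_cotangentSpace (m : Ideal A) [hm : m.IsMaximal] :
    Module.finrank m.ResidueField (m.ResidueField ⊗[A] Ω[A⁄k]) =
      Module.finrank (ResidueField (Localization.AtPrime m))
        (CotangentSpace (Localization.AtPrime m)) := by
  rw [finrank_fibre_kaehler_eq_localization,
    ← finrank_cotangentSpace_eq_finrank_tensor_kaehler k _ (residueField_surjective k A m)]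

theorem nonsing_iff (hirr : (nilradical A).IsPrime) (n : ℕ) (hn : ringKrullDim A = n) :
    (IsReduced A ∧ IsRegularRing A) ↔
      (Module.Projective A (Ω[A⁄k]) ∧
        ∀ (P : Ideal A) [P.IsPrime],
          Module.finrank P.ResidueField (P.ResidueField ⊗[A] Ω[A⁄k]) = n) := by
  haveI : IsNoetherianRing A := Algebra.FiniteType.isNoetherianRing k A
  haveI : Algebra.FinitePresentation k A :=
    Algebra.FinitePresentation.of_finiteType.mp inferInstance
  constructor
  · rintro ⟨_, hreg⟩
    haveI := hreg
    haveI : Algebra.FormallySmooth k A :=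
      (Groth.Agent.S10910.isRegularRing_iff_formallySmooth k A).mp hreg
    have hproj : Module.Projective A (Ω[A⁄k]) := inferInstance
    refine ⟨hproj, ?_⟩
    intro P hP
    obtain ⟨m, hm, hPm⟩ := Ideal.exists_le_maximal P hP.ne_top
    haveI := hm
    have e1 : Module.finrank P.ResidueField (P.ResidueField ⊗[A] Ω[A⁄k]) =
        Module.finrank m.ResidueField (m.ResidueField ⊗[A] Ω[A⁄k]) := by
      have := Module.rankAtStalk_eq_of_le_of_finite_of_flat' (Ω[A⁄k]) hPm
      rw [Module.rankAtStalk_eq, Module.rankAtStalk_eq] at this
      exact this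
    rw [e1, finrank_fibre_eq_finrank_cotangentSpace]
    haveI : IsRegularLocalRing (Localization.AtPrime m) :=
      IsRegularRing.isRegularLocalRing_localization m
    have h := (IsRegularLocalRing.iff_finrank_cotangentSpace
      (R := Localization.AtPrime m)).mp inferInstance
    rw [ringKrullDim_localization_maximal k A hirr n hn m] at h
    exact_mod_cast h
  · rintro ⟨hproj, hrank⟩
    have hregm : ∀ (m : Ideal A) [m.IsMaximal], IsRegularLocalRing (Localization.AtPrime m) := by
      intro m hm
      rw [IsRegularLocalRing.iff_finrank_cotangentSpace,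
        ← finrank_fibre_eq_finrank_cotangentSpace k A m, hrank m,
        ringKrullDim_localization_maximal k A hirr n hn m]
    have hsm : Algebra.smoothLocus k A = Set.univ := by
      by_contra hne
      have hopen := Algebra.isOpen_smoothLocus (R := k) (A := A)
      obtain ⟨I, hI⟩ := (PrimeSpectrum.isClosed_iff_zeroLocus_ideal _).mp hopen.isClosed_compl
      have hne' : (Algebra.smoothLocus k A)ᶜ.Nonempty := Set.nonempty_compl.mpr hne
      rw [hI] at hne'
      obtain ⟨p, hp⟩ := hne'
      obtain ⟨m, hm, hpm⟩ := Ideal.exists_le_maximal p.asIdeal p.2.ne_top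
      have hmem : (⟨m, hm.isPrime⟩ : PrimeSpectrum A) ∈ PrimeSpectrum.zeroLocus (I : Set A) :=
        fun x hx => hpm (hp hx)
      rw [← hI] at hmem
      apply hmem
      haveI := hm
      haveI := hregm m
      haveI : Algebra.IsGeometricallyReduced k m.ResidueField :=
        Groth.Agent.S10910.isGeometricallyReduced_of_isAlgClosed k _
      exact Groth.Agent.Helper14.RegSmooth.isSmoothAt_of_regular k A m
    have hfs : Algebra.FormallySmooth k A := Algebra.smoothLocus_eq_univ_iff.mp hsm
    have hreg : IsRegularRing A :=
      (Groth.Agent.S10910.isRegularRing_iff_formallySmooth k A).mpr hfs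
    haveI := hreg
    exact ⟨Groth.Agent.Helper14.RegularLocalization.isReduced_of_isRegularRing A, hreg⟩

end Groth.Agent.Helper19.OmegaFib
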